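import Cfsg.Agent.TAB.Sm1.Td
import Cfsg.Agent.TAB.Sm1.Tool
import Cfsg.Agent.H175.Eight.J1
import Cfsg.Agent.ODD.Alt.Rat

/-!
# `J₁` : what VAN, ODD, GAL and KZ need (helper19, TAB; the count of the degrees after helper175)
-/

set_option autoImplicit false

namespace Cfsg.Agent.TAB.J1

open Cfsg Subgroup Cfsg.Agent.TAB.Use Cfsg.Agent.TAB.Sm1
open Cfsg.Agent.Characters.Core
open Cfsg.Agent.M23Order.Base
open Cfsg.Agent.H413.JOneSpec
open Cfsg.Agent.SporRec.J1.Defs
open Cfsg.Agent.H417 Cfsg.Agent.H417.JOneDeg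
open Cfsg.Agent.H175.Eight (arith_j1)

universe u

/-- the degrees -/
def degL : List ℕ := [1, 56, 56, 76, 76, 77, 77, 77, 120, 120, 120, 133, 133, 133, 209]

set_option maxHeartbeats 1000000 in
theorem cnt_eq {K : Type u} [Group K] [Finite K] [IsSimpleGroup K] [Fintype (IrrCharacter K)] (h : Local K)
    (hc : Nat.card K = 175560) (m : ℕ) : cnt (fun χ : IrrCharacter K => dg χ) m = degL.count m := by
  classical
  have f7 : Fact (Nat.Prime 7) := ⟨by norm_num⟩
  have f11 : Fact (Nat.Prime 11) := ⟨by norm_num⟩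
  have f19 : Fact (Nat.Prime 19) := ⟨by norm_num⟩
  obtain ⟨P, hP, ⟨D⟩⟩ := BlockCount.exists_SC (G := K) 7 (by norm_num) (by rw [hc]; norm_num)
    (by rw [hc]; norm_num) (fun y hy => by rw [card_cent h hc (by rw [hy]; unfold Big; tauto), hy]) (e := 6) (t := 1)
    (by rw [hc]) (by norm_num)
  obtain ⟨Q, hQ, ⟨E⟩⟩ := BlockCount.exists_SC (G := K) 11 (by norm_num) (by rw [hc]; norm_num)
    (by rw [hc]; norm_num) (fun y hy => by rw [card_cent h hc (by rw [hy]; unfold Big; tauto), hy]) (e := 10) (t := 1)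
    (by rw [hc]) (by norm_num)
  obtain ⟨R, hR, ⟨F⟩⟩ := BlockCount.exists_SC (G := K) 19 (by norm_num) (by rw [hc]; norm_num)
    (by rw [hc]; norm_num) (fun y hy => by rw [card_cent h hc (by rw [hy]; unfold Big; tauto), hy]) (e := 6) (t := 3)
    (by rw [hc]) (by norm_num)
  have hperf : commutator K = ⊤ := MTwelve.SmallDegree.commutator_eq_top_of_card (by rw [hc]; norm_num)
  have hmem : ∀ χ : IrrCharacter K, dg χ ∈ ({1, 56, 76, 77, 120, 132, 133, 209} : Finset ℕ) := by
    intro χ
    have h1 := Divs.all_divs _ primes_ok (N := 175560) rfl deg_list (d := dg χ) (by rw [← hc]; exact dg_dvd χ)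
    have h2 := BlockCount.mod_cases D (by norm_num) (by norm_num) (by norm_num) χ
    have h3 := BlockCount.mod_cases E (by norm_num) (by norm_num) (by norm_num) χ
    have h4 := BlockCount.mod_cases F (by norm_num) (by norm_num) (by norm_num) χ
    have h5 := ne_210 h hc χ
    have h6 : dg χ ^ 2 ≤ 175560 := by
      have h7 := sum_dg_sq_le {χ}
      rw [Finset.sum_singleton, hc] at h7
      exact h7
    simp only [Finset.mem_insert, Finset.mem_singleton]
    simp only [Bool.or_eq_true, decide_eq_true_eq, Bool.not_eq_true', beq_iff_eq, Bool.or_eq_false_iff,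
      beq_eq_false_iff_ne] at h1
    omega
  have h1 : cnt (fun χ : IrrCharacter K => dg χ) 1 = 1 := by
    rw [cnt, Finset.card_eq_one]
    refine ⟨⟨1, isIrr_one⟩, ?_⟩
    ext χ
    rw [Finset.mem_filter, Finset.mem_singleton]
    constructor
    · rintro ⟨-, h1⟩
      exact Subtype.ext (coe_eq_one_of_dg hperf h1)
    · rintro rfl
      exact ⟨Finset.mem_univ _, dg_of_eq (by simp)⟩
  have hsum := sum_eq (fun χ : IrrCharacter K => dg χ) _ hmem (fun d => d ^ 2)
  rw [sum_dg_sq, hc] at hsum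
  have e7 := BlockCount.card_ne_zero D (by norm_num) (by norm_num) (by norm_num)
  have e11 := BlockCount.card_ne_zero E (by norm_num) (by norm_num) (by norm_num)
  have e19 := BlockCount.card_ne_zero F (by norm_num) (by norm_num) (by norm_num)
  have x19 := BlockCount.card_exc F (by norm_num) (by norm_num) (by norm_num)
  rw [card_filter_eq (fun χ : IrrCharacter K => dg χ) _ hmem (fun d => d % 7 ≠ 0)] at e7
  rw [card_filter_eq (fun χ : IrrCharacter K => dg χ) _ hmem (fun d => d % 11 ≠ 0)] at e11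
  rw [card_filter_eq (fun χ : IrrCharacter K => dg χ) _ hmem (fun d => d % 19 ≠ 0)] at e19
  rw [card_filter_eq (fun χ : IrrCharacter K => dg χ) _ hmem (fun d => d % 19 = 6 ∨ d % 19 = 19 - 6)] at x19
  rw [show (({1, 56, 76, 77, 120, 132, 133, 209} : Finset ℕ).filter fun d => d % 7 ≠ 0) =
    {1, 76, 120, 132, 209} by decide +kernel] at e7
  rw [show (({1, 56, 76, 77, 120, 132, 133, 209} : Finset ℕ).filter fun d => d % 11 ≠ 0) =
    {1, 56, 76, 120, 133} by decide +kernel] at e11
  rw [show (({1, 56, 76, 77, 120, 132, 133, 209} : Finset ℕ).filter fun d => d % 19 ≠ 0) =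
    {1, 56, 77, 120, 132} by decide +kernel] at e19
  rw [show (({1, 56, 76, 77, 120, 132, 133, 209} : Finset ℕ).filter fun d => d % 19 = 6 ∨ d % 19 = 19 - 6) =
    {120} by decide +kernel] at x19
  repeat rw [Finset.sum_insert (by decide)] at hsum
  repeat rw [Finset.sum_insert (by decide)] at e7
  repeat rw [Finset.sum_insert (by decide)] at e11
  repeat rw [Finset.sum_insert (by decide)] at e19
  rw [Finset.sum_singleton] at hsum e7 e11 e19 x19
  rw [h1] at hsum e7 e11 e19
  generalize h56 : cnt (fun χ : IrrCharacter K => dg χ) 56 = a56 at hsum e7 e11 e19 x19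
  generalize h76 : cnt (fun χ : IrrCharacter K => dg χ) 76 = a76 at hsum e7 e11 e19 x19
  generalize h77 : cnt (fun χ : IrrCharacter K => dg χ) 77 = a77 at hsum e7 e11 e19 x19
  generalize h120 : cnt (fun χ : IrrCharacter K => dg χ) 120 = a120 at hsum e7 e11 e19 x19
  generalize h132 : cnt (fun χ : IrrCharacter K => dg χ) 132 = a132 at hsum e7 e11 e19 x19
  generalize h133 : cnt (fun χ : IrrCharacter K => dg χ) 133 = a133 at hsum e7 e11 e19 x19
  generalize h209 : cnt (fun χ : IrrCharacter K => dg χ) 209 = a209 at hsum e7 e11 e19 x19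
  obtain ⟨s56, s76, s77, s132, s133, s209⟩ := arith_j1 (a56 := a56) (a76 := a76) (a77 := a77)
    (a120 := a120) (a132 := a132) (a133 := a133) (a209 := a209) (by omega) (by omega) (by omega)
    (by omega) (by omega)
  by_cases hm : m ∈ ({1, 56, 76, 77, 120, 132, 133, 209} : Finset ℕ)
  · simp only [Finset.mem_insert, Finset.mem_singleton] at hm
    rcases hm with rfl | rfl | rfl | rfl | rfl | rfl | rfl | rfl
    exacts [h1, h56.trans s56, h76.trans s76, h77.trans s77, h120.trans x19, h132.trans s132, h133.trans s133,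
      h209.trans s209]
  · rw [List.count_eq_zero.2 fun h2 => hm (by revert h2; simp only [degL]; simp; tauto), cnt, Finset.card_eq_zero,
      Finset.filter_eq_empty_iff]
    exact fun χ _ h2 => hm (h2 ▸ hmem χ)

theorem finite : Finite Spor.J1 := Nat.finite_of_card_ne_zero (by rw [H413.JOneLocal.card_J1]; norm_num)

theorem deg : DegList Spor.J1 degL := by
  have := finite
  have : IsSimpleGroup Spor.J1 := SporadicB.J1.Main.isJ1.1
  have := finite_irr (G := Spor.J1)
  have := Fintype.ofFinite (IrrCharacter Spor.J1)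
  exact degList_of_cnt fun m => cnt_eq H413.JOneLocal.isLocal H413.JOneLocal.card_J1 m

theorem van : VAN.Van3 Spor.J1 := by
  have := finite
  obtain ⟨χ, hE⟩ := deg
  obtain ⟨x, hx⟩ := (exists_orderOf_iff 5).2 (by decide)
  obtain ⟨y, hy⟩ := (exists_orderOf_iff 7).2 (by decide)
  obtain ⟨z, hz⟩ := (exists_orderOf_iff 19).2 (by decide)
  refine van_of_enum hE x y z fun j hj => ?_
  have h1 : ∀ j < degL.length, j = 0 ∨ (degL.getD j 0 ≠ 1 ∧
      (5 ^ 1 ∣ degL.getD j 0 ∨ 7 ^ 1 ∣ degL.getD j 0 ∨ 19 ^ 1 ∣ degL.getD j 0)) := by decide +kernel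
  refine (h1 j hj).imp_right fun h => ⟨h.1, h.2.imp (fun h2 => ?_) (Or.imp (fun h2 => ?_) fun h2 => ?_)⟩ <;>
    refine zero_of_dz (hE.irr j hj) (hE.deg j hj) (by norm_num) ?_ ?_ h2 (by simp only [hx, hy, hz, dvd_refl]) <;>
    rw [H413.JOneLocal.card_J1] <;> norm_num

theorem all : AllRat Spor.J1 := by
  have := finite
  refine ODD.Alt.allR_of_sq fun x hx => ?_
  have h1 := orderOf_dvd_of_pow_eq_one hx
  have h2 := orderOf_mem_J1 x
  rw [← pow_two, ← orderOf_dvd_iff_pow_eq_one]
  simp only [Finset.mem_insert, Finset.mem_singleton] at h2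
  rcases h2 with h | h | h | h | h | h | h | h | h | h <;> rw [h] at h1 ⊢ <;> revert h1 <;> decide

theorem odd : OddRat Spor.J1 := fun χ h _ => all χ h

theorem not_sq {x : Spor.J1} (hx : orderOf x = 5 ∨ orderOf x = 19) : ¬ IsConj x (x ^ 2) := fun h => by
  obtain ⟨c, hc⟩ := conj_pow_mod h
  have h2 := orderOf_mem_J1 c
  simp only [Finset.mem_insert, Finset.mem_singleton] at h2
  rcases hx with hx | hx <;> rw [hx] at hc <;>
    rcases h2 with h | h | h | h | h | h | h | h | h | h <;> rw [h] at hc <;> revert hc <;> decide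

theorem sig : OddMoved Spor.J1 := by
  have := finite
  obtain ⟨χ, hE⟩ := deg
  refine oddMoved_of_count hE [1, 2, 3, 4, 8, 9, 10] (fun j hj h => Or.inl ?_) (f := orderOf)
    (fun _ _ => order_conj) (fun a k hk => (hk.coprime_dvd_right (orderOf_dvd_natCard a)).symm.orderOf_pow)
    [5, 10, 15, 19] (by decide) (fun o ho => ?_) (by decide)
  · revert j
    decide +kernel
  · have h1 : ∀ o ∈ [5, 10, 15, 19], o ∈ ({1, 2, 3, 5, 6, 7, 10, 11, 15, 19} : Finset ℕ) ∧
        ∃ e < 4, e ≠ 0 ∧ (o / Nat.gcd o e = 5 ∨ o / Nat.gcd o e = 19) := by decide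
    obtain ⟨h2, e, -, he, h3⟩ := h1 o ho
    obtain ⟨x, rfl⟩ := (exists_orderOf_iff o).2 h2
    rw [← orderOf_pow' x he] at h3
    exact ⟨x, e, rfl, by rcases h3 with h | h <;> rw [h] <;> decide, not_sq h3⟩

end Cfsg.Agent.TAB.J1
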